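import Mathlib

/-!
# Conjugacy classes of permutation groups

A permutation group on `n` points with `r` orbits has at most `2 ^ (n - r)` conjugacy classes.

For a point `α` we classify the elements `x` of the group by the cycle of `x` through `α`, up to the
conjugation by the stabiliser of `α`.  Extending a partial cycle by one point costs the number `b`
of suborbits of the candidates, and the number of orbits grows at least by `b - 1`.
-/

set_option autoImplicit false
set_option linter.unusedSectionVars false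

namespace Cfsg.Lib.PermClassBound

open Equiv

variable {Ω : Type*} [Fintype Ω] [DecidableEq Ω]

/-- The number of orbits of a permutation group. -/
noncomputable def orbCount (H : Subgroup (Perm Ω)) : ℕ :=
  Nat.card (MulAction.orbitRel.Quotient H Ω)

/-- The orbit of a point, as an element of the quotient. -/
def orbOf (H : Subgroup (Perm Ω)) (a : Ω) : MulAction.orbitRel.Quotient H Ω := Quotient.mk'' a

theorem orbOf_eq_iff {H : Subgroup (Perm Ω)} {a b : Ω} :
    orbOf H a = orbOf H b ↔ ∃ h ∈ H, h b = a := by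
  rw [orbOf, orbOf, Quotient.eq'', MulAction.orbitRel_apply, MulAction.mem_orbit_iff]
  constructor
  · rintro ⟨h, hh⟩
    exact ⟨h, h.2, hh⟩
  · rintro ⟨h, hh, he⟩
    exact ⟨⟨h, hh⟩, he⟩

theorem orbOf_surjective (H : Subgroup (Perm Ω)) : Function.Surjective (orbOf H) :=
  Quotient.mk''_surjective

theorem orbCount_le_card (H : Subgroup (Perm Ω)) : orbCount H ≤ Fintype.card Ω := by
  rw [orbCount, ← Nat.card_eq_fintype_card (α := Ω)]
  exact Nat.card_le_card_of_surjective _ (orbOf_surjective H)

theorem orbCount_pos [Nonempty Ω] (H : Subgroup (Perm Ω)) : 0 < orbCount H := by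
  haveI : Nonempty (MulAction.orbitRel.Quotient H Ω) := ⟨orbOf H (Classical.arbitrary Ω)⟩
  exact Nat.card_pos

/-- Conjugate groups have the same number of orbits. -/
theorem orbCount_eq_of_conj {A K : Subgroup (Perm Ω)} (g : Perm Ω)
    (h : ∀ x, x ∈ A ↔ g * x * g⁻¹ ∈ K) : orbCount A = orbCount K := by
  refine Nat.card_congr (Quotient.congr g fun a b => ?_)
  show MulAction.orbitRel A Ω a b ↔ MulAction.orbitRel K Ω (g a) (g b)
  rw [MulAction.orbitRel_apply, MulAction.orbitRel_apply, MulAction.mem_orbit_iff,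
    MulAction.mem_orbit_iff]
  constructor
  · rintro ⟨x, hx⟩
    refine ⟨⟨g * x * g⁻¹, (h _).1 x.2⟩, ?_⟩
    show (g * (x : Perm Ω) * g⁻¹) (g b) = g a
    rw [Perm.mul_apply, Perm.mul_apply, Perm.inv_eq_iff_eq.2 rfl]
    exact congrArg g hx
  · rintro ⟨x, hx⟩
    refine ⟨⟨g⁻¹ * x * g, (h _).2 (by simpa [mul_assoc] using x.2)⟩, ?_⟩
    show (g⁻¹ * (x : Perm Ω) * g) b = a
    rw [Perm.mul_apply, Perm.mul_apply, Perm.inv_eq_iff_eq]
    exact hx

/-- An orbit of `K` splitting into `b` orbits of `H ≤ K` adds at least `b - 1` orbits. -/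
theorem orbCount_split {H K : Subgroup (Perm Ω)} (hHK : H ≤ K) (o : Ω)
    (B : Finset (MulAction.orbitRel.Quotient H Ω))
    (hB : ∀ c ∈ B, ∃ a, orbOf H a = c ∧ orbOf K a = orbOf K o) :
    orbCount K + B.card ≤ orbCount H + 1 := by
  classical
  have : ∀ C : MulAction.orbitRel.Quotient K Ω, ∃ a, orbOf K a = C := orbOf_surjective K
  choose sec hsec using this
  haveI : Fintype (MulAction.orbitRel.Quotient K Ω) := Fintype.ofFinite _
  haveI : Fintype (MulAction.orbitRel.Quotient H Ω) := Fintype.ofFinite _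
  let B' : Finset (MulAction.orbitRel.Quotient H Ω) :=
    (Finset.univ.erase (orbOf K o)).image fun C => orbOf H (sec C)
  have key : ∀ {a b : Ω}, orbOf H a = orbOf H b → orbOf K a = orbOf K b := by
    intro a b hab
    obtain ⟨h, hh, he⟩ := orbOf_eq_iff.1 hab
    exact orbOf_eq_iff.2 ⟨h, hHK hh, he⟩
  have hinj : Function.Injective fun C => orbOf H (sec C) := by
    intro C D hCD
    have := key hCD
    rwa [hsec, hsec] at this
  have hdisj : Disjoint B B' := by
    rw [Finset.disjoint_left]
    intro c hc hc'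
    obtain ⟨C, hC, rfl⟩ := Finset.mem_image.1 hc'
    obtain ⟨a, ha, ha'⟩ := hB _ hc
    have := key ha
    rw [hsec, ha'] at this
    exact (Finset.mem_erase.1 hC).1 this.symm
  have hcard : B'.card + 1 = orbCount K := by
    rw [Finset.card_image_of_injective _ hinj, Finset.card_erase_add_one (Finset.mem_univ _),
      Finset.card_univ, orbCount, Nat.card_eq_fintype_card]
  have hle : B.card + B'.card ≤ orbCount H := by
    rw [← Finset.card_union_of_disjoint hdisj, orbCount, Nat.card_eq_fintype_card]
    exact Finset.card_le_univ _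
  omega

section Coset

variable {G : Type*} [Group G] [Finite G]

/-- A coset `x H`, with `x` normalising `H`, meets at most `k(H)` classes under conjugation by
`H`. -/
theorem exists_reps_coset [DecidableEq G] (H : Subgroup G) (x : G)
    (hx : ∀ u ∈ H, x⁻¹ * u * x ∈ H) :
    ∃ R : Finset G, R.card ≤ Nat.card (ConjClasses H) ∧
      ∀ y, x⁻¹ * y ∈ H → ∃ u ∈ H, u * y * u⁻¹ ∈ R := by
  classical
  let Cos := {y : G // x⁻¹ * y ∈ H}
  letI : MulAction H Cos :=
    { smul := fun u y => ⟨u * y.1 * (u : G)⁻¹, by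
        rw [show x⁻¹ * ((u : G) * y.1 * (u : G)⁻¹)
          = (x⁻¹ * u * x) * (x⁻¹ * y.1) * (u : G)⁻¹ by group]
        exact H.mul_mem (H.mul_mem (hx _ u.2) y.2) (H.inv_mem u.2)⟩
      one_smul := fun y => Subtype.ext (show (1 : G) * y.1 * (1 : G)⁻¹ = y.1 by group)
      mul_smul := fun u v y => Subtype.ext (show ((u : G) * v) * y.1 * ((u : G) * v)⁻¹
        = (u : G) * ((v : G) * y.1 * (v : G)⁻¹) * (u : G)⁻¹ by group) }
  haveI : Fintype H := Fintype.ofFinite _
  haveI : Fintype Cos := Fintype.ofFinite _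
  haveI : Fintype (MulAction.orbitRel.Quotient H Cos) := Fintype.ofFinite _
  have hburn := MulAction.sum_card_fixedBy_eq_card_orbits_mul_card_group H Cos
  have hfix : ∀ u : H, Fintype.card (MulAction.fixedBy Cos u) ≤ Nat.card {v : H // Commute u v} := by
    intro u
    rw [← Nat.card_eq_fintype_card]
    by_cases hne : Nonempty (MulAction.fixedBy Cos u)
    · obtain ⟨⟨y0, hy0⟩⟩ := hne
      have h0 : (u : G) * y0.1 * (u : G)⁻¹ = y0.1 := congrArg Subtype.val hy0
      have hmem : ∀ y : MulAction.fixedBy Cos u, y0.1⁻¹ * y.1.1 ∈ H := fun y => by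
        rw [show y0.1⁻¹ * y.1.1 = (x⁻¹ * y0.1)⁻¹ * (x⁻¹ * y.1.1) by group]
        exact H.mul_mem (H.inv_mem y0.2) y.1.2
      refine Nat.card_le_card_of_injective (fun y => ⟨⟨_, hmem y⟩, ?_⟩) ?_
      · have h1 : (u : G) * y.1.1 * (u : G)⁻¹ = y.1.1 := congrArg Subtype.val y.2
        have c0 : Commute (u : G) y0.1 := mul_inv_eq_iff_eq_mul.1 h0
        have c1 : Commute (u : G) y.1.1 := mul_inv_eq_iff_eq_mul.1 h1
        exact Subtype.ext (c0.inv_right.mul_right c1)
      · intro a b hab
        have := congrArg (fun v => ((v.1 : H) : G)) hab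
        exact Subtype.ext (Subtype.ext (mul_left_cancel this))
    · haveI := not_nonempty_iff.1 hne
      simp
  have hle : Fintype.card (MulAction.orbitRel.Quotient H Cos) ≤ Nat.card (ConjClasses H) := by
    have h2 : Nat.card {p : H × H // Commute p.1 p.2}
        = ∑ u : H, Nat.card {v : H // Commute u v} := by
      rw [← Nat.card_sigma]
      exact Nat.card_congr
        { toFun := fun p => ⟨p.1.1, p.1.2, p.2⟩
          invFun := fun w => ⟨(w.1, w.2.1), w.2.2⟩
          left_inv := fun p => rfl
          right_inv := fun w => rfl }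
    have h3 : ∑ u : H, Fintype.card (MulAction.fixedBy Cos u)
        ≤ Nat.card (ConjClasses H) * Fintype.card H := by
      rw [← Nat.card_eq_fintype_card (α := H), ← card_comm_eq_card_conjClasses_mul_card, h2]
      exact Finset.sum_le_sum fun u _ => hfix u
    rw [hburn] at h3
    exact Nat.le_of_mul_le_mul_right h3 Fintype.card_pos
  refine ⟨(Finset.univ : Finset (MulAction.orbitRel.Quotient H Cos)).image
    (fun c => (Quotient.out c).1), Finset.card_image_le.trans hle, fun y hy => ?_⟩
  let c : MulAction.orbitRel.Quotient H Cos := Quotient.mk'' ⟨y, hy⟩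
  have hc : MulAction.orbitRel H Cos (Quotient.out c) ⟨y, hy⟩ := Quotient.mk_out _
  obtain ⟨u, hu⟩ := MulAction.mem_orbit_iff.1 (MulAction.orbitRel_apply.1 hc)
  refine ⟨u, u.2, Finset.mem_image.2 ⟨c, Finset.mem_univ _, ?_⟩⟩
  exact (congrArg Subtype.val hu).symm

end Coset

theorem succ_le_two_pow : ∀ b : ℕ, b + 1 ≤ 2 ^ b := fun b => Nat.lt_two_pow_self

section Chain

/-- The elements of `X` fixing `p j` for `j < i`. -/
def ptStab (X : Subgroup (Perm Ω)) (p : ℕ → Ω) (i : ℕ) : Subgroup (Perm Ω) :=
  X ⊓ fixingSubgroup (Perm Ω) (p '' Set.Iio i)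

theorem mem_ptStab {X : Subgroup (Perm Ω)} {p : ℕ → Ω} {i : ℕ} {x : Perm Ω} :
    x ∈ ptStab X p i ↔ x ∈ X ∧ ∀ j < i, x (p j) = p j := by
  simp [ptStab, Subgroup.mem_inf, mem_fixingSubgroup_iff]

/-- The main recursion along the cycle of a point. -/
theorem exists_reps_path (X : Subgroup (Perm Ω)) (α : Ω) (hα : ∃ x ∈ X, x α ≠ α)
    (IH : ∀ Y : Subgroup (Perm Ω), Y < X →
      Nat.card (ConjClasses Y) ≤ 2 ^ (Fintype.card Ω - orbCount Y)) :
    ∀ (m i : ℕ) (p : ℕ → Ω), Fintype.card Ω ≤ i + m → p 0 = α → Set.InjOn p (Set.Iic i) →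
      (∃ x0 ∈ X, ∀ j < i, x0 (p j) = p (j + 1)) →
      ∃ R : Finset (Perm Ω), R.card ≤ 2 ^ (Fintype.card Ω - orbCount (ptStab X p i)) ∧
        ∀ x ∈ X, (∀ j < i, x (p j) = p (j + 1)) →
          ∃ h ∈ ptStab X p (i + 1), h * x * h⁻¹ ∈ R := by
  classical
  intro m
  induction m with
  | zero =>
    intro i p hm _ hinj _
    exfalso
    have := Finset.card_le_card (Finset.subset_univ ((Finset.range (i + 1)).image p))
    rw [Finset.card_image_of_injOn, Finset.card_range, Finset.card_univ] at this
    · omega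
    · intro a ha b hb hab
      exact hinj (by simp at ha ⊢; omega) (by simp at hb ⊢; omega) hab
  | succ m ih =>
    intro i p hm hp0 hinj hex
    obtain ⟨x0, hx0, hx0p⟩ := hex
    set n := Fintype.card Ω with hn
    set H := ptStab X p (i + 1) with hH
    set K := ptStab X (fun j => p (j + 1)) i with hK
    have hAK : orbCount (ptStab X p i) = orbCount K := by
      refine orbCount_eq_of_conj x0 fun x => ?_
      rw [hK, mem_ptStab, mem_ptStab, X.mul_mem_cancel_right (X.inv_mem hx0),
        X.mul_mem_cancel_left hx0]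
      refine and_congr_right fun _ => forall₂_congr fun j hj => ?_
      rw [Perm.mul_apply, Perm.mul_apply,
        show x0⁻¹ (p (j + 1)) = p j from Perm.inv_eq_iff_eq.2 (hx0p j hj).symm,
        ← hx0p j hj, x0.injective.eq_iff]
    have hHK : H ≤ K := by
      intro h hh
      rw [hH, mem_ptStab] at hh
      rw [hK, mem_ptStab]
      exact ⟨hh.1, fun j hj => hh.2 (j + 1) (by omega)⟩
    let S : Set (Perm Ω) := {x | x ∈ X ∧ ∀ j < i, x (p j) = p (j + 1)}
    haveI : Fintype (MulAction.orbitRel.Quotient H Ω) := Fintype.ofFinite _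
    let B : Finset (MulAction.orbitRel.Quotient H Ω) :=
      Finset.univ.filter fun c => ∃ x ∈ S, orbOf H (x (p i)) = c
    have hB : ∀ c ∈ B, ∃ a, orbOf H a = c ∧ orbOf K a = orbOf K (x0 (p i)) := by
      intro c hc
      obtain ⟨x, ⟨hxX, hxp⟩, hxc⟩ := (Finset.mem_filter.1 hc).2
      refine ⟨x (p i), hxc, orbOf_eq_iff.2 ⟨x * x0⁻¹, ?_, ?_⟩⟩
      · rw [hK, mem_ptStab]
        refine ⟨X.mul_mem hxX (X.inv_mem hx0), fun j hj => ?_⟩
        rw [Perm.mul_apply, show x0⁻¹ (p (j + 1)) = p j from Perm.inv_eq_iff_eq.2 (hx0p j hj).symm,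
          hxp j hj]
      · simp
    have hsplit := orbCount_split hHK (x0 (p i)) B hB
    have hHlt : H < X := by
      refine lt_of_le_of_ne inf_le_left fun he => ?_
      obtain ⟨x, hx, hxa⟩ := hα
      rw [← he, hH, mem_ptStab] at hx
      exact hxa (hp0 ▸ hx.2 0 (by omega))
    -- the fibres
    have hfib : ∀ c ∈ B, ∃ R : Finset (Perm Ω), R.card ≤ 2 ^ (n - orbCount H) ∧
        ∀ y ∈ S, orbOf H (y (p i)) = c → ∃ h ∈ H, h * y * h⁻¹ ∈ R := by
      intro c hc
      obtain ⟨x, ⟨hxX, hxp⟩, hxc⟩ := (Finset.mem_filter.1 hc).2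
      -- every element of the fibre can be moved to one with the same image of `p i`
      have hmove : ∀ y ∈ S, orbOf H (y (p i)) = c → ∃ u ∈ H,
          (u * y * u⁻¹ ∈ S ∧ (u * y * u⁻¹) (p i) = x (p i)) := by
        rintro y ⟨hyX, hyp⟩ hyc
        obtain ⟨u, hu, hue⟩ := orbOf_eq_iff.1 (hxc.trans hyc.symm)
        have hu' := mem_ptStab.1 hu
        have hfix : ∀ j, j ≤ i → u⁻¹ (p j) = p j := fun j hj =>
          Perm.inv_eq_iff_eq.2 (hu'.2 j (by omega)).symm
        refine ⟨u, hu, ⟨X.mul_mem (X.mul_mem hu'.1 hyX) (X.inv_mem hu'.1), fun j hj => ?_⟩, ?_⟩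
        · rw [Perm.mul_apply, Perm.mul_apply, hfix j hj.le, hyp j hj, hu'.2 (j + 1) (by omega)]
        · rw [Perm.mul_apply, Perm.mul_apply, hfix i le_rfl, hue]
      by_cases hclose : x (p i) = p 0
      · -- the cycle closes
        have hfixinv : ∀ j < i, x⁻¹ (p (j + 1)) = p j := fun j hj =>
          Perm.inv_eq_iff_eq.2 (hxp j hj).symm
        have hfix0 : x⁻¹ (p 0) = p i := Perm.inv_eq_iff_eq.2 hclose.symm
        obtain ⟨R, hR, hRy⟩ := exists_reps_coset H x fun u hu => by
          rw [hH, mem_ptStab] at hu ⊢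
          refine ⟨X.mul_mem (X.mul_mem (X.inv_mem hxX) hu.1) hxX, fun j hj => ?_⟩
          rw [Perm.mul_apply, Perm.mul_apply]
          rcases Nat.lt_or_ge j i with hji | hji
          · rw [hxp j hji, hu.2 (j + 1) (by omega), hfixinv j hji]
          · obtain rfl : j = i := by omega
            rw [hclose, hu.2 0 (by omega), hfix0]
        refine ⟨R, hR.trans (IH H hHlt), fun y hy hyc => ?_⟩
        obtain ⟨u, hu, ⟨huX, hup⟩, hui⟩ := hmove y hy hyc
        obtain ⟨v, hv, hvR⟩ := hRy (u * y * u⁻¹) (by
          rw [hH, mem_ptStab]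
          refine ⟨X.mul_mem (X.inv_mem hxX) huX, fun j hj => ?_⟩
          rw [Perm.mul_apply]
          rcases Nat.lt_or_ge j i with hji | hji
          · rw [hup j hji, hfixinv j hji]
          · obtain rfl : j = i := by omega
            rw [hui, hclose, hfix0])
        refine ⟨v * u, H.mul_mem hv hu, ?_⟩
        rwa [show (v * u) * y * (v * u)⁻¹ = v * (u * y * u⁻¹) * v⁻¹ by group]
      · -- one more point
        set q := x (p i) with hq
        have hqne : ∀ j ≤ i, p j ≠ q := by
          intro j hj he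
          rcases Nat.eq_zero_or_pos j with rfl | hjp
          · exact hclose he.symm
          · obtain ⟨l, rfl⟩ : ∃ l, j = l + 1 := ⟨j - 1, by omega⟩
            rw [← hxp l (by omega), hq] at he
            have := hinj (by simp; omega) (by simp) (x.injective he)
            omega
        let p' := Function.update p (i + 1) q
        have hp' : ∀ j ≤ i, p' j = p j := fun j hj => Function.update_of_ne (by omega) _ _
        have hp'q : p' (i + 1) = q := Function.update_self _ _ _
        have hinj' : Set.InjOn p' (Set.Iic (i + 1)) := by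
          intro a ha b hb hab
          simp only [Set.mem_Iic] at ha hb
          rcases Nat.lt_or_ge a (i + 1) with ha' | ha' <;>
            rcases Nat.lt_or_ge b (i + 1) with hb' | hb'
          · rw [hp' a (by omega), hp' b (by omega)] at hab
            exact hinj (by simp; omega) (by simp; omega) hab
          · obtain rfl : b = i + 1 := by omega
            rw [hp' a (by omega), hp'q] at hab
            exact absurd hab (hqne a (by omega))
          · obtain rfl : a = i + 1 := by omega
            rw [hp' b (by omega), hp'q] at hab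
            exact absurd hab.symm (hqne b (by omega))
          · omega
        have hstep : ∀ z : Perm Ω, ((∀ j < i + 1, z (p' j) = p' (j + 1)) ↔
            (∀ j < i, z (p j) = p (j + 1)) ∧ z (p i) = q) := by
          intro z
          constructor
          · intro hz
            refine ⟨fun j hj => ?_, ?_⟩
            · have := hz j (by omega)
              rwa [hp' j hj.le, hp' (j + 1) hj] at this
            · have := hz i (by omega)
              rwa [hp' i le_rfl, hp'q] at this
          · rintro ⟨hz, hzi⟩ j hj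
            rcases Nat.lt_or_ge j i with hji | hji
            · rw [hp' j hji.le, hp' (j + 1) hji]
              exact hz j hji
            · obtain rfl : j = i := by omega
              rw [hp' j le_rfl, hp'q]
              exact hzi
        obtain ⟨R, hR, hRy⟩ := ih (i + 1) p' (by omega)
          (by rw [hp' 0 (Nat.zero_le _), hp0]) hinj' ⟨x, hxX, (hstep x).2 ⟨hxp, hq.symm⟩⟩
        have hsame : ptStab X p' (i + 1) = H := by
          ext z
          rw [hH, mem_ptStab, mem_ptStab]
          refine and_congr_right fun _ => forall₂_congr fun j hj => ?_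
          rw [hp' j (by omega)]
        rw [hsame] at hR
        refine ⟨R, hR, fun y hy hyc => ?_⟩
        obtain ⟨u, hu, ⟨huX, hup⟩, hui⟩ := hmove y hy hyc
        obtain ⟨v, hv, hvR⟩ := hRy _ huX ((hstep _).2 ⟨hup, hui⟩)
        have hvH : v ∈ H := by
          rw [← hsame, mem_ptStab]
          rw [mem_ptStab] at hv
          exact ⟨hv.1, fun j hj => hv.2 j (by omega)⟩
        refine ⟨v * u, H.mul_mem hvH hu, ?_⟩
        rwa [show (v * u) * y * (v * u)⁻¹ = v * (u * y * u⁻¹) * v⁻¹ by group]
    choose R hRcard hRcov using hfib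
    refine ⟨B.attach.biUnion fun c => R c.1 c.2, ?_, fun y hyX hyp => ?_⟩
    · have h1 : (B.attach.biUnion fun c => R c.1 c.2).card ≤ B.card * 2 ^ (n - orbCount H) := by
        refine Finset.card_biUnion_le.trans ?_
        refine (Finset.sum_le_card_nsmul _ _ _ fun c _ => hRcard c.1 c.2).trans ?_
        rw [Finset.card_attach, smul_eq_mul]
      refine h1.trans ?_
      have h2 := orbCount_le_card H
      have hKle := orbCount_le_card K
      have hne : 0 < B.card :=
        Finset.card_pos.2 ⟨orbOf H (x0 (p i)),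
          Finset.mem_filter.2 ⟨Finset.mem_univ _, x0, ⟨hx0, hx0p⟩, rfl⟩⟩
      rw [hAK]
      calc B.card * 2 ^ (n - orbCount H)
          ≤ 2 ^ (B.card - 1) * 2 ^ (n - orbCount H) := by
            refine Nat.mul_le_mul_right _ ?_
            have := succ_le_two_pow (B.card - 1)
            omega
        _ ≤ 2 ^ (n - orbCount K) := by
            rw [← pow_add]
            exact Nat.pow_le_pow_right (by norm_num) (by omega)
    · have hc : orbOf H (y (p i)) ∈ B :=
        Finset.mem_filter.2 ⟨Finset.mem_univ _, y, ⟨hyX, hyp⟩, rfl⟩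
      obtain ⟨h, hh, hhR⟩ := hRcov _ hc y ⟨hyX, hyp⟩ rfl
      exact ⟨h, hh, Finset.mem_biUnion.2 ⟨⟨_, hc⟩, Finset.mem_attach _ _, hhR⟩⟩

end Chain

/-- A permutation group on `n` points with `r` orbits has at most `2 ^ (n - r)` classes. -/
theorem card_conjClasses_le (X : Subgroup (Perm Ω)) :
    Nat.card (ConjClasses X) ≤ 2 ^ (Fintype.card Ω - orbCount X) := by
  classical
  induction X using WellFoundedLT.induction with
  | ind X IH =>
    by_cases hα : ∃ α, ∃ x ∈ X, x α ≠ α
    · obtain ⟨α, hα⟩ := hα
      obtain ⟨R, hR, hcov⟩ := exists_reps_path X α hα IH (Fintype.card Ω) 0 (fun _ => α)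
        (by omega) rfl (by intro a ha b hb _; simp at ha hb; omega)
        ⟨1, X.one_mem, fun j hj => absurd hj (by omega)⟩
      have h0 : ptStab X (fun _ => α) 0 = X := by
        ext z
        simp [mem_ptStab]
      rw [h0] at hR
      refine le_trans ?_ hR
      rw [← Nat.card_eq_finsetCard R]
      let f : ↥R → ConjClasses X := fun r =>
        if hr : r.1 ∈ X then ConjClasses.mk ⟨r.1, hr⟩ else ConjClasses.mk 1
      refine Nat.card_le_card_of_surjective f fun c => ?_
      obtain ⟨x, rfl⟩ := ConjClasses.exists_rep c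
      obtain ⟨h, hh, hhR⟩ := hcov x.1 x.2 (fun j hj => absurd hj (by omega))
      have hhX : h ∈ X := (mem_ptStab.1 hh).1
      refine ⟨⟨_, hhR⟩, ?_⟩
      simp only [f]
      rw [dif_pos (X.mul_mem (X.mul_mem hhX x.2) (X.inv_mem hhX))]
      exact ConjClasses.mk_eq_mk_iff_isConj.2
        (isConj_iff.2 ⟨⟨h, hhX⟩, Subtype.ext rfl⟩).symm
    · have hbot : X = ⊥ := by
        rw [eq_bot_iff]
        intro x hx
        rw [Subgroup.mem_bot]
        ext a
        by_contra h
        exact hα ⟨a, x, hx, h⟩
      subst hbot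
      haveI : Subsingleton (ConjClasses (⊥ : Subgroup (Perm Ω))) :=
        Quotient.mk_surjective.subsingleton
      exact (Nat.card_eq_one_iff_unique.2 ⟨inferInstance, ⟨ConjClasses.mk 1⟩⟩).le.trans
        Nat.one_le_two_pow

end Cfsg.Lib.PermClassBound
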