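import Mathlib

/-!
# Weights for counting classes of permutation groups to the base `√3`

An orbit of size `s` has weight `wt s`: `s` for `s ≤ 2` and `√3 ^ (s - 1)` otherwise.
-/

set_option autoImplicit false

namespace Cfsg.Lib.PermClassRootThree

/-- `√3`. -/
noncomputable abbrev r3 : ℝ := Real.sqrt 3

theorem r3_sq : r3 * r3 = 3 := Real.mul_self_sqrt (by norm_num)

theorem r3_bounds : (1732 : ℝ) / 1000 < r3 ∧ r3 < 17321 / 10000 := by
  constructor
  · rw [Real.lt_sqrt (by norm_num)]; norm_num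
  · rw [Real.sqrt_lt' (by norm_num)]; norm_num

theorem r3_pos : 0 < r3 := Real.sqrt_pos.2 (by norm_num)

theorem one_le_r3 : 1 ≤ r3 := by linarith [r3_bounds.1]

/-- The weight of an orbit. -/
noncomputable def wt : ℕ → ℝ
  | 0 => 1
  | 1 => 1
  | 2 => 2
  | (n + 3) => r3 ^ (n + 2)

theorem wt_of_three_le {s : ℕ} (hs : 3 ≤ s) : wt s = r3 ^ (s - 1) := by
  obtain ⟨n, rfl⟩ : ∃ n, s = n + 3 := ⟨s - 3, by omega⟩
  rfl

theorem one_le_wt : ∀ s, 1 ≤ wt s
  | 0 => le_rfl
  | 1 => le_rfl
  | 2 => by norm_num [wt]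
  | (n + 3) => one_le_pow₀ one_le_r3

theorem wt_pos (s : ℕ) : 0 < wt s := lt_of_lt_of_le one_pos (one_le_wt s)

theorem wt_le_pow : ∀ s, 1 ≤ s → wt s * r3 ≤ 2 / r3 * r3 ^ s
  | 0 => by omega
  | 1 => fun _ => by
    have := r3_bounds
    simp only [wt, pow_one, div_mul_cancel₀ _ r3_pos.ne']
    linarith
  | 2 => fun _ => by
    rw [wt, pow_two, ← mul_assoc, div_mul_cancel₀ _ r3_pos.ne']
  | (n + 3) => fun _ => by
    have h : 2 / r3 * r3 ^ (n + 3) = 2 * r3 ^ (n + 2) := by
      rw [pow_succ]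
      field_simp
    rw [h, wt, mul_comm]
    exact mul_le_mul_of_nonneg_right (by linarith [r3_bounds.2]) (by positivity)

/-- The weight is superadditive. -/
theorem wt_mul_le (a b : ℕ) (ha : 1 ≤ a) (hb : 1 ≤ b) : wt a * wt b ≤ wt (a + b) := by
  rcases Nat.lt_or_ge (a + b) 3 with h | h
  · obtain ⟨rfl, rfl⟩ : a = 1 ∧ b = 1 := by omega
    norm_num [wt]
  · have h1 := wt_le_pow a ha
    have h2 := wt_le_pow b hb
    rw [wt_of_three_le h]
    obtain ⟨k, hk⟩ : ∃ k, a + b = k + 1 := ⟨a + b - 1, by omega⟩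
    rw [hk, Nat.add_sub_cancel]
    have h3 : (wt a * r3) * (wt b * r3) ≤ (2 / r3 * r3 ^ a) * (2 / r3 * r3 ^ b) :=
      mul_le_mul h1 h2 (mul_nonneg (wt_pos b).le r3_pos.le)
        (mul_nonneg (div_nonneg (by norm_num) r3_pos.le) (pow_nonneg r3_pos.le _))
    have h4 : (2 / r3 * r3 ^ a) * (2 / r3 * r3 ^ b) = 4 / 3 * (r3 ^ k * r3) := by
      rw [← pow_succ, ← hk, pow_add,
        show (2 / r3 * r3 ^ a) * (2 / r3 * r3 ^ b) = (2 / r3 * (2 / r3)) * (r3 ^ a * r3 ^ b) by ring,
        div_mul_div_comm, r3_sq]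
      norm_num
    have h5 : (wt a * r3) * (wt b * r3) = 3 * (wt a * wt b) := by
      rw [show (wt a * r3) * (wt b * r3) = (r3 * r3) * (wt a * wt b) by ring, r3_sq]
    have hp : (0 : ℝ) ≤ r3 ^ k := pow_nonneg r3_pos.le k
    have h6 : r3 ^ k * r3 ≤ r3 ^ k * (9 / 4) :=
      mul_le_mul_of_nonneg_left (by linarith [r3_bounds.2]) hp
    linarith

theorem prod_wt_le {ι : Type*} (B : Finset ι) (q : ι → ℕ) (hq : ∀ i ∈ B, 1 ≤ q i) :
    ∏ i ∈ B, wt (q i) ≤ wt (∑ i ∈ B, q i) := by
  classical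
  induction B using Finset.induction with
  | empty => simp [wt]
  | insert a B haB ih =>
    rw [Finset.prod_insert haB, Finset.sum_insert haB]
    rcases B.eq_empty_or_nonempty with rfl | hB
    · simp
    · have hB' := ih fun i hi => hq i (Finset.mem_insert_of_mem hi)
      have hs : 1 ≤ ∑ i ∈ B, q i := by
        obtain ⟨i, hi⟩ := hB
        exact le_trans (hq i (Finset.mem_insert_of_mem hi)) (Finset.single_le_sum (fun j _ => Nat.zero_le _) hi)
      exact (mul_le_mul_of_nonneg_left hB' (wt_pos _).le).trans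
        (wt_mul_le _ _ (hq a (Finset.mem_insert_self _ _)) hs)

/-- The constant of the long orbits: `1 + cbig = √3 * cbig`. -/
noncomputable def cbig : ℝ := (r3 + 1) / 2

theorem cbig_eq : 1 + cbig = r3 * cbig := by
  have := r3_sq
  rw [cbig]
  nlinarith

/-- The factor allowed to a partial cycle ending in an orbit of size `s`. -/
noncomputable def cst (s : ℕ) : ℝ := if s ≤ 2 then 1 else cbig

theorem one_le_cst (s : ℕ) : 1 ≤ cst s := by
  unfold cst
  split_ifs
  · exact le_rfl
  · rw [cbig]; linarith [r3_bounds.1]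

/-- The gain of a part. -/
noncomputable def gain (s : ℕ) : ℝ := if s = 2 then 3 / 2 else r3

theorem wt_mul_gain : ∀ s, 1 ≤ s → wt s * gain s = r3 ^ s
  | 0 => by omega
  | 1 => fun _ => by simp [wt, gain]
  | 2 => fun _ => by
    rw [gain, if_pos rfl, wt, pow_two, r3_sq]; norm_num
  | (n + 3) => fun _ => by
    rw [gain, if_neg (by omega), wt, ← pow_succ]

theorem gain_ge (s : ℕ) : (3 : ℝ) / 2 ≤ gain s := by
  unfold gain
  split_ifs
  · exact le_rfl
  · linarith [r3_bounds.1]

theorem part_cases {s : ℕ} (hs : 1 ≤ s) :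
    (cst s = 1 ∧ gain s = r3 ∧ wt s = 1) ∨ (cst s = 1 ∧ gain s = 3 / 2 ∧ wt s = 2) ∨
      (cst s = cbig ∧ gain s = r3 ∧ 3 ≤ wt s) := by
  rcases Nat.lt_or_ge s 3 with h | h
  · interval_cases s
    · exact Or.inl ⟨by simp [cst], by simp [gain], rfl⟩
    · exact Or.inr (Or.inl ⟨by simp [cst], by simp [gain], rfl⟩)
  · refine Or.inr (Or.inr ⟨by rw [cst, if_neg (by omega)], by rw [gain, if_neg (by omega)], ?_⟩)
    rw [wt_of_three_le h, ← r3_sq, ← pow_two]
    exact pow_le_pow_right₀ one_le_r3 (by omega)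

/-- The main numerical inequality for the parts of an orbit. -/
theorem parts_ineq {ι : Type*} (B : Finset ι) (q : ι → ℕ) (hq : ∀ i ∈ B, 1 ≤ q i)
    (ht : 2 ≤ ∑ i ∈ B, q i) :
    1 + ∑ i ∈ B, cst (q i) ≤ cbig * ∏ i ∈ B, gain (q i) ∧
      ∑ i ∈ B, cst (q i) + (∏ i ∈ B, wt (q i))⁻¹ ≤ ∏ i ∈ B, gain (q i) := by
  classical
  obtain ⟨b, hb⟩ : ∃ b, B.card = b := ⟨_, rfl⟩
  induction b using Nat.strong_induction_on generalizing B with
  | _ b ih =>
    have hr := r3_bounds
    have hsq := r3_sq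
    have hc := cbig_eq
    have hcb : (1366 : ℝ) / 1000 ≤ cbig ∧ cbig ≤ 13661 / 10000 := by
      rw [cbig]; constructor <;> linarith
    have inv_le : ∀ {x c : ℝ}, 0 < c → c ≤ x → x⁻¹ ≤ c⁻¹ := fun hc hx => inv_anti₀ hc hx
    rcases Nat.lt_or_ge b 3 with hb3 | hb3
    · interval_cases b
      · rw [Finset.card_eq_zero] at hb
        simp [hb] at ht
      · obtain ⟨a, rfl⟩ := Finset.card_eq_one.1 hb
        simp only [Finset.sum_singleton, Finset.prod_singleton] at ht ⊢
        rcases part_cases (hq a (Finset.mem_singleton_self a)) with ⟨-, -, h⟩ | ⟨c1, g1, w1⟩ | ⟨c1, g1, w1⟩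
        · exfalso
          rcases Nat.lt_or_ge (q a) 3 with h3 | h3
          · obtain hq2 : q a = 2 := by omega
            rw [hq2, wt] at h
            norm_num at h
          · rw [wt_of_three_le h3] at h
            have h9 := pow_le_pow_right₀ one_le_r3 (show 2 ≤ q a - 1 by omega)
            rw [pow_two, hsq, h] at h9
            norm_num at h9
        · rw [c1, g1, w1]; constructor <;> nlinarith
        · rw [c1, g1]
          refine ⟨by nlinarith, ?_⟩
          have := inv_le (by norm_num : (0 : ℝ) < 3) w1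
          norm_num at this
          linarith
      · obtain ⟨a, c, hac, rfl⟩ := Finset.card_eq_two.1 hb
        simp only [Finset.sum_pair hac, Finset.prod_pair hac]
        have ha := hq a (Finset.mem_insert_self _ _)
        have hc' := hq c (Finset.mem_insert_of_mem (Finset.mem_singleton_self c))
        rcases part_cases ha with ⟨c1, g1, w1⟩ | ⟨c1, g1, w1⟩ | ⟨c1, g1, w1⟩ <;>
          rcases part_cases hc' with ⟨c2, g2, w2⟩ | ⟨c2, g2, w2⟩ | ⟨c2, g2, w2⟩ <;>
          rw [c1, c2, g1, g2] <;> refine ⟨by nlinarith, ?_⟩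
        · rw [w1, w2]; norm_num <;> nlinarith
        · rw [w1, w2]; norm_num <;> nlinarith
        · have := inv_le (by norm_num : (0 : ℝ) < 3) (show 3 ≤ wt (q a) * wt (q c) by rw [w1]; linarith)
          nlinarith
        · rw [w1, w2]; norm_num <;> nlinarith
        · rw [w1, w2]; norm_num
        · have := inv_le (by norm_num : (0 : ℝ) < 6) (show 6 ≤ wt (q a) * wt (q c) by rw [w1]; linarith)
          nlinarith
        · have := inv_le (by norm_num : (0 : ℝ) < 3) (show 3 ≤ wt (q a) * wt (q c) by rw [w2]; linarith)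
          nlinarith
        · have := inv_le (by norm_num : (0 : ℝ) < 6) (show 6 ≤ wt (q a) * wt (q c) by rw [w2]; linarith)
          nlinarith
        · have := inv_le (by norm_num : (0 : ℝ) < 9) (show 9 ≤ wt (q a) * wt (q c) by nlinarith)
          nlinarith
    · obtain ⟨a, ha⟩ := Finset.card_pos.1 (show 0 < B.card by omega)
      have hcard : (B.erase a).card = b - 1 := by rw [Finset.card_erase_of_mem ha, hb]
      have hq' : ∀ i ∈ B.erase a, 1 ≤ q i := fun i hi => hq i (Finset.mem_of_mem_erase hi)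
      have ht' : 2 ≤ ∑ i ∈ B.erase a, q i := by
        have hle : (B.erase a).card ≤ ∑ i ∈ B.erase a, q i := by
          rw [Finset.card_eq_sum_ones]
          exact Finset.sum_le_sum hq'
        omega
      obtain ⟨h1, h2⟩ := ih (b - 1) (by omega) _ hq' ht' hcard
      rw [← Finset.add_sum_erase _ _ ha, ← Finset.mul_prod_erase _ (fun i => gain (q i)) ha,
        ← Finset.mul_prod_erase _ (fun i => wt (q i)) ha]
      set G := ∏ i ∈ B.erase a, gain (q i)
      set S := ∑ i ∈ B.erase a, cst (q i)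
      set W := ∏ i ∈ B.erase a, wt (q i) with hW
      have hWpos : 0 < W := Finset.prod_pos fun i _ => wt_pos _
      have hG : (9 : ℝ) / 4 ≤ G := by
        have h94 : ((3 : ℝ) / 2) ^ (b - 1) ≤ G := by
          rw [← hcard, ← Finset.prod_const]
          exact Finset.prod_le_prod (fun i _ => by norm_num) fun i _ => gain_ge _
        exact le_trans (le_trans (by norm_num) (pow_le_pow_right₀ (by norm_num) (show 2 ≤ b - 1 by omega))) h94
      have hinv : (wt (q a) * W)⁻¹ ≤ W⁻¹ :=
        inv_anti₀ hWpos (le_mul_of_one_le_left hWpos.le (one_le_wt _))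
      rcases part_cases (hq a ha) with ⟨c1, g1, -⟩ | ⟨c1, g1, -⟩ | ⟨c1, g1, -⟩ <;> rw [c1, g1] <;>
        constructor <;> nlinarith

end Cfsg.Lib.PermClassRootThree
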