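import Cfsg.Agent.PermClassBound.Main
import Cfsg.Agent.PermClassBound.Weights
import Cfsg.Agent.S4201

/-!
# Permutation groups on `n` points have at most `√3 ^ (n - 1)` classes for `n ≥ 3`

The number of classes is bounded by the product of the weights of the orbits.
-/

set_option autoImplicit false
set_option linter.unusedSectionVars false
set_option linter.style.haveILetI false

namespace Cfsg.Lib.PermClassRootThree

open Equiv Cfsg.Lib.PermClassBound

variable {Ω : Type*} [Fintype Ω] [DecidableEq Ω]

open scoped Classical in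
/-- The orbit of `a` as a finite set. -/
noncomputable def orb (H : Subgroup (Perm Ω)) (a : Ω) : Finset Ω :=
  Finset.univ.filter fun b => ∃ h ∈ H, h a = b

theorem mem_orb {H : Subgroup (Perm Ω)} {a b : Ω} : b ∈ orb H a ↔ ∃ h ∈ H, h a = b := by
  classical
  simp [orb]

theorem self_mem_orb (H : Subgroup (Perm Ω)) (a : Ω) : a ∈ orb H a :=
  mem_orb.2 ⟨1, H.one_mem, rfl⟩

theorem orb_eq_of_mem {H : Subgroup (Perm Ω)} {a b : Ω} (h : b ∈ orb H a) : orb H b = orb H a := by
  obtain ⟨g, hg, rfl⟩ := mem_orb.1 h
  ext c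
  rw [mem_orb, mem_orb]
  constructor
  · rintro ⟨u, hu, rfl⟩
    exact ⟨u * g, H.mul_mem hu hg, rfl⟩
  · rintro ⟨u, hu, rfl⟩
    exact ⟨u * g⁻¹, H.mul_mem hu (H.inv_mem hg), by simp⟩

theorem orb_eq_singleton {H : Subgroup (Perm Ω)} {a : Ω} (h : ∀ u ∈ H, u a = a) : orb H a = {a} := by
  ext b
  rw [mem_orb, Finset.mem_singleton]
  exact ⟨fun ⟨u, hu, he⟩ => he ▸ h u hu, fun hb => ⟨1, H.one_mem, hb.symm⟩⟩

/-- The set of orbits. -/
noncomputable def orbs (H : Subgroup (Perm Ω)) : Finset (Finset Ω) := Finset.univ.image (orb H)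

/-- The product of the weights of the orbits. -/
noncomputable def wprod (H : Subgroup (Perm Ω)) : ℝ := ∏ O ∈ orbs H, wt O.card

/-- The product of the weights of the orbits of `H` within `O`. -/
noncomputable def part (H : Subgroup (Perm Ω)) (O : Finset Ω) : ℝ := ∏ Q ∈ O.image (orb H), wt Q.card

theorem one_le_wprod (H : Subgroup (Perm Ω)) : 1 ≤ wprod H :=
  Finset.one_le_prod fun _ _ => one_le_wt _

theorem part_pos (H : Subgroup (Perm Ω)) (O : Finset Ω) : 0 < part H O :=
  Finset.prod_pos fun _ _ => wt_pos _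

/-- An orbit of `K` is partitioned by the orbits of `H ≤ K`. -/
theorem sum_card_parts {H K : Subgroup (Perm Ω)} (hHK : H ≤ K) (a : Ω) :
    ∑ Q ∈ (orb K a).image (orb H), Q.card = (orb K a).card := by
  classical
  rw [Finset.card_eq_sum_card_image (orb H) (orb K a)]
  refine Finset.sum_congr rfl fun Q hQ => ?_
  obtain ⟨b, hb, rfl⟩ := Finset.mem_image.1 hQ
  refine congrArg Finset.card ?_
  ext c
  rw [Finset.mem_filter]
  constructor
  · intro hc
    refine ⟨?_, orb_eq_of_mem hc⟩
    obtain ⟨u, hu, rfl⟩ := mem_orb.1 hc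
    rw [← orb_eq_of_mem hb]
    exact mem_orb.2 ⟨u, hHK hu, rfl⟩
  · rintro ⟨-, hc⟩
    rw [← hc]
    exact self_mem_orb H c

theorem part_le {H K : Subgroup (Perm Ω)} (hHK : H ≤ K) {O : Finset Ω} (hO : O ∈ orbs K) :
    part H O ≤ wt O.card := by
  obtain ⟨a, -, rfl⟩ := Finset.mem_image.1 hO
  rw [← sum_card_parts hHK a]
  refine prod_wt_le _ (fun Q : Finset Ω => Q.card) fun Q hQ => ?_
  obtain ⟨b, -, rfl⟩ := Finset.mem_image.1 hQ
  exact Finset.card_pos.2 ⟨b, self_mem_orb H b⟩

theorem wprod_eq_parts {H K : Subgroup (Perm Ω)} (hHK : H ≤ K) :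
    wprod H = ∏ O ∈ orbs K, part H O := by
  classical
  have hun : orbs H = (orbs K).biUnion fun O => O.image (orb H) := by
    ext Q
    simp only [orbs, Finset.mem_biUnion, Finset.mem_image, Finset.mem_univ, true_and]
    constructor
    · rintro ⟨a, rfl⟩
      exact ⟨orb K a, ⟨a, rfl⟩, a, self_mem_orb K a, rfl⟩
    · rintro ⟨O, -, a, -, rfl⟩
      exact ⟨a, rfl⟩
  rw [wprod, hun, Finset.prod_biUnion]
  · rfl
  · intro O hO O' hO' hne
    show Disjoint (O.image (orb H)) (O'.image (orb H))
    rw [Finset.disjoint_left]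
    intro Q hQ hQ'
    obtain ⟨a, ha, rfl⟩ := Finset.mem_image.1 hQ
    obtain ⟨b, hb, hbe⟩ := Finset.mem_image.1 hQ'
    obtain ⟨u, -, rfl⟩ := Finset.mem_image.1 hO
    obtain ⟨v, -, rfl⟩ := Finset.mem_image.1 hO'
    obtain ⟨g, hg, he⟩ := mem_orb.1 (hbe ▸ self_mem_orb H b : b ∈ orb H a)
    exact hne (by rw [← orb_eq_of_mem ha, ← orb_eq_of_mem hb, orb_eq_of_mem (mem_orb.2 ⟨g, hHK hg, he⟩)])

theorem wprod_mono {H K : Subgroup (Perm Ω)} (hHK : H ≤ K) : wprod H ≤ wprod K := by
  rw [wprod_eq_parts hHK]
  exact Finset.prod_le_prod (fun O _ => (part_pos H O).le) fun O hO => part_le hHK hO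

theorem wprod_eq_of_conj {A K : Subgroup (Perm Ω)} (g : Perm Ω)
    (h : ∀ x, x ∈ A ↔ g * x * g⁻¹ ∈ K) : wprod A = wprod K := by
  classical
  have horb : ∀ a, orb K (g a) = (orb A a).image g := by
    intro a
    ext b
    rw [mem_orb, Finset.mem_image]
    constructor
    · rintro ⟨u, hu, rfl⟩
      refine ⟨(g⁻¹ * u * g) a, mem_orb.2 ⟨_, (h _).2 (by simpa [mul_assoc] using hu), rfl⟩, by simp⟩
    · rintro ⟨c, hc, rfl⟩
      obtain ⟨u, hu, rfl⟩ := mem_orb.1 hc
      exact ⟨_, (h u).1 hu, by simp⟩
  have himg : orbs K = (orbs A).image (Finset.image g) := by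
    rw [orbs, orbs, Finset.image_image]
    ext O
    simp only [Finset.mem_image, Finset.mem_univ, true_and, Function.comp_apply]
    constructor
    · rintro ⟨a, rfl⟩
      exact ⟨g⁻¹ a, by rw [← horb]; simp⟩
    · rintro ⟨a, rfl⟩
      exact ⟨g a, horb a⟩
  rw [wprod, wprod, himg, Finset.prod_image fun x _ y _ he => Finset.image_injective g.injective he]
  exact Finset.prod_congr rfl fun O _ => by rw [Finset.card_image_of_injective _ g.injective]

section Chain

/-- The recursion along the cycle of a point, to the base `√3`. -/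
theorem exists_reps_step (X : Subgroup (Perm Ω)) (α : Ω) (hα : ∃ x ∈ X, x α ≠ α)
    (IH : ∀ Y : Subgroup (Perm Ω), Y < X → (Nat.card (ConjClasses Y) : ℝ) ≤ wprod Y) :
    ∀ (m i : ℕ) (p : ℕ → Ω), Fintype.card Ω ≤ i + m → 1 ≤ i → p 0 = α → Set.InjOn p (Set.Iic i) →
      ∀ x0 ∈ X, (∀ j < i, x0 (p j) = p (j + 1)) →
      ∃ R : Finset (Perm Ω), (R.card : ℝ) ≤
          cst (orb (ptStab X (fun j => p (j + 1)) i) (x0 (p i))).card * wprod (ptStab X p i) ∧
        ∀ x ∈ X, (∀ j < i, x (p j) = p (j + 1)) →
          ∃ h ∈ ptStab X p (i + 1), h * x * h⁻¹ ∈ R := by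
  classical
  intro m
  induction m with
  | zero =>
    intro i p hm _ _ hinj
    exfalso
    have := Finset.card_le_card (Finset.subset_univ ((Finset.range (i + 1)).image p))
    rw [Finset.card_image_of_injOn, Finset.card_range, Finset.card_univ] at this
    · omega
    · intro a ha b hb hab
      exact hinj (by simp at ha ⊢; omega) (by simp at hb ⊢; omega) hab
  | succ m ih =>
    intro i p hm hi1 hp0 hinj x0 hx0 hx0p
    set H := ptStab X p (i + 1) with hH
    set K := ptStab X (fun j => p (j + 1)) i with hK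
    have hAK : wprod (ptStab X p i) = wprod K := by
      refine wprod_eq_of_conj x0 fun x => ?_
      rw [hK, mem_ptStab, mem_ptStab, X.mul_mem_cancel_right (X.inv_mem hx0),
        X.mul_mem_cancel_left hx0]
      refine and_congr_right fun _ => forall₂_congr fun j hj => ?_
      rw [Perm.mul_apply, Perm.mul_apply,
        show x0⁻¹ (p (j + 1)) = p j from Perm.inv_eq_iff_eq.2 (hx0p j hj).symm,
        ← hx0p j hj, x0.injective.eq_iff]
    have hHK : H ≤ K := by
      intro h hh
      rw [hH, mem_ptStab] at hh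
      rw [hK, mem_ptStab]
      exact ⟨hh.1, fun j hj => hh.2 (j + 1) (by omega)⟩
    have hHlt : H < X := by
      refine lt_of_le_of_ne inf_le_left fun he => ?_
      obtain ⟨x, hx, hxa⟩ := hα
      rw [← he, hH, mem_ptStab] at hx
      exact hxa (hp0 ▸ hx.2 0 (by omega))
    have hfix0 : ∀ u ∈ H, u (p 0) = p 0 := fun u hu => (mem_ptStab.1 hu).2 0 (by omega)
    have hKfix : ∀ u ∈ H, ∀ j ≤ i, u (p j) = p j := fun u hu j hj =>
      (mem_ptStab.1 hu).2 j (by omega)
    set O := orb K (x0 (p i)) with hO
    set B := O.image (orb H) with hB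
    let S : Set (Perm Ω) := {x | x ∈ X ∧ ∀ j < i, x (p j) = p (j + 1)}
    have hSO : ∀ y ∈ S, y (p i) ∈ O := by
      rintro y ⟨hyX, hyp⟩
      refine mem_orb.2 ⟨y * x0⁻¹, ?_, by simp⟩
      rw [hK, mem_ptStab]
      refine ⟨X.mul_mem hyX (X.inv_mem hx0), fun j hj => ?_⟩
      rw [Perm.mul_apply, show x0⁻¹ (p (j + 1)) = p j from Perm.inv_eq_iff_eq.2 (hx0p j hj).symm,
        hyp j hj]
    -- the fibres
    have hfib : ∀ Q : Finset Ω, ∃ R : Finset (Perm Ω),
        (R.card : ℝ) ≤ (if Q = {p 0} then 1 else cst Q.card) * wprod H ∧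
        ∀ y ∈ S, orb H (y (p i)) = Q → ∃ h ∈ H, h * y * h⁻¹ ∈ R := by
      intro Q
      by_cases hex : ∃ x ∈ S, orb H (x (p i)) = Q
      swap
      · refine ⟨∅, ?_, fun y hy hyQ => absurd ⟨y, hy, hyQ⟩ hex⟩
        simp only [Finset.card_empty, Nat.cast_zero]
        refine mul_nonneg ?_ (le_trans zero_le_one (one_le_wprod H))
        split_ifs
        · exact zero_le_one
        · exact le_trans zero_le_one (one_le_cst _)
      obtain ⟨x, ⟨hxX, hxp⟩, hxQ⟩ := hex
      have hmove : ∀ y ∈ S, orb H (y (p i)) = Q → ∃ u ∈ H,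
          (u * y * u⁻¹ ∈ S ∧ (u * y * u⁻¹) (p i) = x (p i)) := by
        rintro y ⟨hyX, hyp⟩ hyQ
        obtain ⟨u, hu, hue⟩ := mem_orb.1 (hyQ.symm ▸ hxQ ▸ self_mem_orb H (x (p i)) :
          x (p i) ∈ orb H (y (p i)))
        have hfix : ∀ j, j ≤ i → u⁻¹ (p j) = p j := fun j hj =>
          Perm.inv_eq_iff_eq.2 (hKfix u hu j hj).symm
        refine ⟨u, hu, ⟨X.mul_mem (X.mul_mem (mem_ptStab.1 hu).1 hyX)
          (X.inv_mem (mem_ptStab.1 hu).1), fun j hj => ?_⟩, ?_⟩
        · rw [Perm.mul_apply, Perm.mul_apply, hfix j hj.le, hyp j hj, hKfix u hu (j + 1) (by omega)]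
        · rw [Perm.mul_apply, Perm.mul_apply, hfix i le_rfl, hue]
      by_cases hclose : x (p i) = p 0
      · have hQ0 : Q = {p 0} := by rw [← hxQ, hclose, orb_eq_singleton hfix0]
        have hfixinv : ∀ j < i, x⁻¹ (p (j + 1)) = p j := fun j hj =>
          Perm.inv_eq_iff_eq.2 (hxp j hj).symm
        have hfix0' : x⁻¹ (p 0) = p i := Perm.inv_eq_iff_eq.2 hclose.symm
        obtain ⟨R, hR, hRy⟩ := exists_reps_coset H x fun u hu => by
          rw [hH, mem_ptStab] at hu ⊢
          refine ⟨X.mul_mem (X.mul_mem (X.inv_mem hxX) hu.1) hxX, fun j hj => ?_⟩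
          rw [Perm.mul_apply, Perm.mul_apply]
          rcases Nat.lt_or_ge j i with hji | hji
          · rw [hxp j hji, hu.2 (j + 1) (by omega), hfixinv j hji]
          · obtain rfl : j = i := by omega
            rw [hclose, hu.2 0 (by omega), hfix0']
        refine ⟨R, ?_, fun y hy hyc => ?_⟩
        · rw [if_pos hQ0, one_mul]
          exact le_trans (by exact_mod_cast hR) (IH H hHlt)
        obtain ⟨u, hu, ⟨huX, hup⟩, hui⟩ := hmove y hy hyc
        obtain ⟨v, hv, hvR⟩ := hRy (u * y * u⁻¹) (by
          rw [hH, mem_ptStab]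
          refine ⟨X.mul_mem (X.inv_mem hxX) huX, fun j hj => ?_⟩
          rw [Perm.mul_apply]
          rcases Nat.lt_or_ge j i with hji | hji
          · rw [hup j hji, hfixinv j hji]
          · obtain rfl : j = i := by omega
            rw [hui, hclose, hfix0'])
        refine ⟨v * u, H.mul_mem hv hu, ?_⟩
        rwa [show (v * u) * y * (v * u)⁻¹ = v * (u * y * u⁻¹) * v⁻¹ by group]
      · have hQ0 : Q ≠ {p 0} := by
          intro h
          have := self_mem_orb H (x (p i))
          rw [hxQ, h, Finset.mem_singleton] at this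
          exact hclose this
        set q := x (p i) with hq
        have hqne : ∀ j ≤ i, p j ≠ q := by
          intro j hj he
          rcases Nat.eq_zero_or_pos j with rfl | hjp
          · exact hclose he.symm
          · obtain ⟨l, rfl⟩ : ∃ l, j = l + 1 := ⟨j - 1, by omega⟩
            rw [← hxp l (by omega), hq] at he
            have := hinj (by simp; omega) (by simp) (x.injective he)
            omega
        let p' := Function.update p (i + 1) q
        have hp' : ∀ j ≤ i, p' j = p j := fun j hj => Function.update_of_ne (by omega) _ _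
        have hp'q : p' (i + 1) = q := Function.update_self _ _ _
        have hinj' : Set.InjOn p' (Set.Iic (i + 1)) := by
          intro a ha b hb hab
          simp only [Set.mem_Iic] at ha hb
          rcases Nat.lt_or_ge a (i + 1) with ha' | ha' <;>
            rcases Nat.lt_or_ge b (i + 1) with hb' | hb'
          · rw [hp' a (by omega), hp' b (by omega)] at hab
            exact hinj (by simp; omega) (by simp; omega) hab
          · obtain rfl : b = i + 1 := by omega
            rw [hp' a (by omega), hp'q] at hab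
            exact absurd hab (hqne a (by omega))
          · obtain rfl : a = i + 1 := by omega
            rw [hp' b (by omega), hp'q] at hab
            exact absurd hab.symm (hqne b (by omega))
          · omega
        have hstep : ∀ z : Perm Ω, ((∀ j < i + 1, z (p' j) = p' (j + 1)) ↔
            (∀ j < i, z (p j) = p (j + 1)) ∧ z (p i) = q) := by
          intro z
          constructor
          · intro hz
            refine ⟨fun j hj => ?_, ?_⟩
            · have := hz j (by omega)
              rwa [hp' j hj.le, hp' (j + 1) hj] at this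
            · have := hz i (by omega)
              rwa [hp' i le_rfl, hp'q] at this
          · rintro ⟨hz, hzi⟩ j hj
            rcases Nat.lt_or_ge j i with hji | hji
            · rw [hp' j hji.le, hp' (j + 1) hji]
              exact hz j hji
            · obtain rfl : j = i := by omega
              rw [hp' j le_rfl, hp'q]
              exact hzi
        have hsame : ptStab X p' (i + 1) = H := by
          ext z
          rw [hH, mem_ptStab, mem_ptStab]
          refine and_congr_right fun _ => forall₂_congr fun j hj => ?_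
          rw [hp' j (by omega)]
        obtain ⟨R, hR, hRy⟩ := ih (i + 1) p' (by omega) (by omega)
          (by rw [hp' 0 (Nat.zero_le _), hp0]) hinj' x hxX ((hstep x).2 ⟨hxp, hq.symm⟩)
        -- the next active orbit is the image of `Q`
        have hcardQ : (orb (ptStab X (fun j => p' (j + 1)) (i + 1)) (x (p' (i + 1)))).card
            = Q.card := by
          have : orb (ptStab X (fun j => p' (j + 1)) (i + 1)) (x q) = (orb H q).image x := by
            ext b
            rw [mem_orb, Finset.mem_image]
            have hx' := (hstep x).2 ⟨hxp, hq.symm⟩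
            constructor
            · rintro ⟨z, hz, rfl⟩
              rw [mem_ptStab] at hz
              refine ⟨(x⁻¹ * z * x) q, mem_orb.2 ⟨_, ?_, rfl⟩, by simp⟩
              rw [← hsame, mem_ptStab]
              refine ⟨X.mul_mem (X.mul_mem (X.inv_mem hxX) hz.1) hxX, fun j hj => ?_⟩
              rw [Perm.mul_apply, Perm.mul_apply, hx' j hj, hz.2 j hj, ← hx' j hj]
              simp
            · rintro ⟨c, hc, rfl⟩
              obtain ⟨u, hu, rfl⟩ := mem_orb.1 hc
              refine ⟨x * u * x⁻¹, ?_, by simp⟩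
              rw [← hsame, mem_ptStab] at hu
              rw [mem_ptStab]
              refine ⟨X.mul_mem (X.mul_mem hxX hu.1) (X.inv_mem hxX), fun j hj => ?_⟩
              rw [Perm.mul_apply, Perm.mul_apply, ← hx' j hj]
              simp [hu.2 j hj]
          rw [hp'q, this, hxQ, Finset.card_image_of_injective _ x.injective]
        rw [hcardQ, hsame] at hR
        refine ⟨R, by rwa [if_neg hQ0], fun y hy hyc => ?_⟩
        obtain ⟨u, hu, ⟨huX, hup⟩, hui⟩ := hmove y hy hyc
        obtain ⟨v, hv, hvR⟩ := hRy _ huX ((hstep _).2 ⟨hup, hui⟩)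
        have hvH : v ∈ H := by
          rw [← hsame, mem_ptStab]
          rw [mem_ptStab] at hv
          exact ⟨hv.1, fun j hj => hv.2 j (by omega)⟩
        refine ⟨v * u, H.mul_mem hvH hu, ?_⟩
        rwa [show (v * u) * y * (v * u)⁻¹ = v * (u * y * u⁻¹) * v⁻¹ by group]
    choose R hRcard hRcov using hfib
    refine ⟨B.biUnion R, ?_, fun y hyX hyp => ?_⟩
    swap
    · obtain ⟨h, hh, hhR⟩ := hRcov _ y ⟨hyX, hyp⟩ rfl
      exact ⟨h, hh, Finset.mem_biUnion.2
        ⟨_, Finset.mem_image.2 ⟨_, hSO y ⟨hyX, hyp⟩, rfl⟩, hhR⟩⟩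
    set w : Finset Ω → ℝ := fun Q => if Q = {p 0} then 1 else cst Q.card with hw
    have hsum : ((B.biUnion R).card : ℝ) ≤ (∑ Q ∈ B, w Q) * wprod H := by
      rw [Finset.sum_mul]
      refine le_trans (Nat.cast_le.2 Finset.card_biUnion_le) ?_
      push_cast
      exact Finset.sum_le_sum fun Q _ => hRcard Q
    refine hsum.trans ?_
    rw [hAK]
    -- the weights
    have hOmem : O ∈ orbs K := Finset.mem_image.2 ⟨_, Finset.mem_univ _, rfl⟩
    have hpart1 : ∀ b ∈ B, 1 ≤ b.card := fun b hb => by
      obtain ⟨c, -, rfl⟩ := Finset.mem_image.1 hb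
      exact Finset.card_pos.2 ⟨c, self_mem_orb H c⟩
    have hsumB : ∑ Q ∈ B, Q.card = O.card := sum_card_parts hHK _
    by_cases hα0 : p 0 ∈ O
    · -- the active orbit contains the first point
      have hsplit : wprod H * wt O.card ≤ part H O * wprod K := by
        rw [wprod_eq_parts hHK, wprod, ← Finset.mul_prod_erase _ _ hOmem,
          ← Finset.mul_prod_erase (orbs K) (fun O => wt O.card) hOmem]
        have := Finset.prod_le_prod (s := (orbs K).erase O) (fun U _ => (part_pos H U).le)
          fun U hU => part_le hHK (Finset.mem_of_mem_erase hU)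
        calc part H O * (∏ U ∈ (orbs K).erase O, part H U) * wt O.card
            ≤ part H O * (∏ U ∈ (orbs K).erase O, wt U.card) * wt O.card :=
              mul_le_mul_of_nonneg_right (mul_le_mul_of_nonneg_left this (part_pos H O).le) (wt_pos _).le
          _ = _ := by ring
      suffices hkey : (∑ Q ∈ B, w Q) * part H O ≤ cst O.card * wt O.card by
        have hB0 : 0 ≤ ∑ Q ∈ B, w Q := Finset.sum_nonneg fun Q _ => by
          simp only [hw]
          split_ifs
          · exact zero_le_one
          · exact le_trans zero_le_one (one_le_cst _)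
        refine le_of_mul_le_mul_right ?_ (wt_pos O.card)
        calc (∑ Q ∈ B, w Q) * wprod H * wt O.card
            ≤ (∑ Q ∈ B, w Q) * (part H O * wprod K) := by
              rw [mul_assoc]; exact mul_le_mul_of_nonneg_left hsplit hB0
          _ ≤ cst O.card * wt O.card * wprod K := by
              rw [← mul_assoc]
              exact mul_le_mul_of_nonneg_right hkey (le_trans zero_le_one (one_le_wprod K))
          _ = _ := by ring
      have hQ0 : ({p 0} : Finset Ω) ∈ B :=
        Finset.mem_image.2 ⟨p 0, hα0, orb_eq_singleton hfix0⟩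
      rw [part, ← hB, ← Finset.add_sum_erase _ _ hQ0, ← Finset.mul_prod_erase _ _ hQ0,
        Finset.card_singleton, show wt 1 = 1 from rfl, one_mul]
      simp only [hw, if_true]
      rw [Finset.sum_congr rfl fun Q hQ => if_neg (Finset.ne_of_mem_erase hQ)]
      have hs : O.card = ∑ Q ∈ B.erase {p 0}, Q.card + 1 := by
        rw [← hsumB, ← Finset.add_sum_erase _ _ hQ0, Finset.card_singleton]
        omega
      have hq' : ∀ Q ∈ B.erase {p 0}, 1 ≤ Q.card := fun Q hQ => hpart1 Q (Finset.mem_of_mem_erase hQ)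
      rw [hs]
      generalize hB' : B.erase {p 0} = B' at hq' ⊢
      rcases Nat.lt_or_ge (∑ Q ∈ B', Q.card) 2 with ht | ht
      · rcases Finset.eq_empty_or_nonempty B' with rfl | ⟨Q, hQ⟩
        · simp [cst, wt]
        · have hBQ : B' = {Q} := by
            refine Finset.eq_singleton_iff_unique_mem.2 ⟨hQ, fun Q' hQ' => ?_⟩
            by_contra hne
            have := Finset.sum_le_sum_of_subset (f := fun Q : Finset Ω => Q.card)
              (show ({Q', Q} : Finset (Finset Ω)) ⊆ B' by
                intro z hz; simp at hz; rcases hz with rfl | rfl <;> assumption)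
            rw [Finset.sum_pair hne] at this
            have := hq' Q hQ
            have := hq' Q' hQ'
            omega
          subst hBQ
          simp only [Finset.sum_singleton, Finset.prod_singleton] at ht ⊢
          have hQ1 : Q.card = 1 := by have := hq' Q hQ; omega
          rw [hQ1]
          norm_num [cst, wt]
      · obtain ⟨h1, -⟩ := parts_ineq B' (fun Q : Finset Ω => Q.card) hq' ht
        rw [show cst (∑ Q ∈ B', Q.card + 1) = cbig by rw [cst, if_neg (by omega)],
          wt_of_three_le (by omega), Nat.add_sub_cancel]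
        calc (1 + ∑ Q ∈ B', cst Q.card) * ∏ Q ∈ B', wt Q.card
            ≤ (cbig * ∏ Q ∈ B', gain Q.card) * ∏ Q ∈ B', wt Q.card :=
              mul_le_mul_of_nonneg_right h1 (Finset.prod_nonneg fun Q _ => (wt_pos _).le)
          _ = cbig * r3 ^ (∑ Q ∈ B', Q.card) := by
              rw [mul_assoc, ← Finset.prod_mul_distrib, ← Finset.prod_pow_eq_pow_sum]
              refine congrArg (cbig * ·) (Finset.prod_congr rfl fun Q hQ => ?_)
              rw [mul_comm, wt_mul_gain _ (hq' Q hQ)]
    · -- the first point lies in another orbit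
      set P := orb K (p 0) with hP
      have hPmem : P ∈ orbs K := Finset.mem_image.2 ⟨_, Finset.mem_univ _, rfl⟩
      have hPO : P ≠ O := fun h => hα0 (h ▸ self_mem_orb K (p 0))
      have hwB : ∑ Q ∈ B, w Q = ∑ Q ∈ B, cst Q.card := by
        refine Finset.sum_congr rfl fun Q hQ => if_neg ?_
        rintro rfl
        obtain ⟨c, hc, hce⟩ := Finset.mem_image.1 hQ
        have := self_mem_orb H c
        rw [hce, Finset.mem_singleton] at this
        exact hα0 (this ▸ hc)
      rw [hwB]
      rcases Nat.lt_or_ge P.card 2 with hP2 | hP2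
      · -- then `H = K` and `O` does not split
        have hKH : K ≤ H := by
          intro z hz
          have hz0 : z (p 0) = p 0 := by
            have hPc : P = {p 0} := by
              refine (Finset.eq_of_subset_of_card_le (Finset.singleton_subset_iff.2 (self_mem_orb K _)) ?_).symm
              rw [Finset.card_singleton, ← hP]; omega
            have : z (p 0) ∈ P := mem_orb.2 ⟨z, hz, rfl⟩
            rwa [hPc, Finset.mem_singleton] at this
          rw [hK, mem_ptStab] at hz
          rw [hH, mem_ptStab]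
          refine ⟨hz.1, fun j hj => ?_⟩
          rcases Nat.eq_zero_or_pos j with rfl | hjp
          · exact hz0
          · obtain ⟨l, rfl⟩ : ∃ l, j = l + 1 := ⟨j - 1, by omega⟩
            exact hz.2 l (by omega)
        have heq : H = K := le_antisymm hHK hKH
        have hB1 : B = {O} := by
          rw [hB, heq]
          refine Finset.eq_singleton_iff_unique_mem.2 ⟨?_, fun Q hQ => ?_⟩
          · exact Finset.mem_image.2 ⟨_, self_mem_orb K _, rfl⟩
          · obtain ⟨c, hc, rfl⟩ := Finset.mem_image.1 hQ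
            exact orb_eq_of_mem hc
        rw [hB1, Finset.sum_singleton, heq]
      · have hsplit : wprod H * (3 / 2 * wt O.card) ≤ part H O * wprod K := by
          have hPgain : part H P * (3 / 2) ≤ wt P.card := by
            have hQ0 : ({p 0} : Finset Ω) ∈ P.image (orb H) :=
              Finset.mem_image.2 ⟨p 0, self_mem_orb K _, orb_eq_singleton hfix0⟩
            have hPs : ∑ Q ∈ (P.image (orb H)).erase {p 0}, Q.card + 1 = P.card := by
              rw [hP, ← sum_card_parts hHK (p 0), ← hP, ← Finset.add_sum_erase _ _ hQ0,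
                Finset.card_singleton]
              omega
            rw [part, ← Finset.mul_prod_erase _ _ hQ0, Finset.card_singleton, show wt 1 = 1 from rfl,
              one_mul]
            refine le_trans (mul_le_mul_of_nonneg_right (prod_wt_le _ (fun Q : Finset Ω => Q.card) fun Q hQ => ?_)
              (by norm_num)) ?_
            · obtain ⟨c, -, rfl⟩ := Finset.mem_image.1 (Finset.mem_of_mem_erase hQ)
              exact Finset.card_pos.2 ⟨c, self_mem_orb H c⟩
            rw [← hPs]
            generalize ∑ Q ∈ (P.image (orb H)).erase {p 0}, Q.card = t at hPs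
            have ht : 1 ≤ t := by omega
            rcases Nat.lt_or_ge t 2 with h2 | h2
            · obtain rfl : t = 1 := by omega
              norm_num [wt]
            · have h9 := wt_mul_gain t ht
              rw [wt_of_three_le (show 3 ≤ t + 1 by omega), Nat.add_sub_cancel, ← h9]
              exact mul_le_mul_of_nonneg_left (gain_ge t) (wt_pos t).le
          have hPe : P ∈ (orbs K).erase O := Finset.mem_erase.2 ⟨hPO, hPmem⟩
          rw [wprod_eq_parts hHK, wprod, ← Finset.mul_prod_erase _ _ hOmem,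
            ← Finset.mul_prod_erase (orbs K) (fun O => wt O.card) hOmem,
            ← Finset.mul_prod_erase _ (part H) hPe,
            ← Finset.mul_prod_erase _ (fun O => wt O.card) hPe]
          have := Finset.prod_le_prod (s := ((orbs K).erase O).erase P) (fun U _ => (part_pos H U).le)
            fun U hU => part_le hHK (Finset.mem_of_mem_erase (Finset.mem_of_mem_erase hU))
          have hnn : 0 ≤ ∏ U ∈ ((orbs K).erase O).erase P, part H U :=
            Finset.prod_nonneg fun U _ => (part_pos H U).le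
          calc part H O * (part H P * ∏ U ∈ ((orbs K).erase O).erase P, part H U) * (3 / 2 * wt O.card)
              = (part H P * (3 / 2)) * (∏ U ∈ ((orbs K).erase O).erase P, part H U)
                  * (part H O * wt O.card) := by ring
            _ ≤ wt P.card * (∏ U ∈ ((orbs K).erase O).erase P, wt U.card)
                  * (part H O * wt O.card) :=
                mul_le_mul_of_nonneg_right (mul_le_mul hPgain this hnn (wt_pos _).le)
                  (mul_nonneg (part_pos H O).le (wt_pos _).le)
            _ = _ := by ring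
        suffices hkey : (∑ Q ∈ B, cst Q.card) * part H O ≤ 3 / 2 * (cst O.card * wt O.card) by
          have hB0 : 0 ≤ ∑ Q ∈ B, cst Q.card :=
            Finset.sum_nonneg fun Q _ => le_trans zero_le_one (one_le_cst _)
          refine le_of_mul_le_mul_right ?_ (mul_pos (show (0 : ℝ) < 3 / 2 by norm_num) (wt_pos O.card))
          calc (∑ Q ∈ B, cst Q.card) * wprod H * (3 / 2 * wt O.card)
              ≤ (∑ Q ∈ B, cst Q.card) * (part H O * wprod K) := by
                rw [mul_assoc]; exact mul_le_mul_of_nonneg_left hsplit hB0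
            _ ≤ 3 / 2 * (cst O.card * wt O.card) * wprod K := by
                rw [← mul_assoc]
                exact mul_le_mul_of_nonneg_right hkey (le_trans zero_le_one (one_le_wprod K))
            _ = _ := by ring
        rw [part, ← hB, ← hsumB]
        rcases Nat.lt_or_ge (∑ Q ∈ B, Q.card) 3 with ht | ht
        · have hW : ∏ Q ∈ B, wt Q.card ≤ wt (∑ Q ∈ B, Q.card) := prod_wt_le _ _ hpart1
          have hc1 : ∀ Q ∈ B, cst Q.card = 1 := fun Q hQ => by
            have := Finset.single_le_sum (f := fun Q : Finset Ω => Q.card) (fun _ _ => Nat.zero_le _) hQ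
            rw [cst, if_pos (by omega)]
          rw [Finset.sum_congr rfl hc1, Finset.sum_const, nsmul_eq_mul, mul_one, cst,
            if_pos (by omega), one_mul]
          rcases Nat.lt_or_ge B.card 2 with hb | hb
          · have : (B.card : ℝ) ≤ 1 := by exact_mod_cast (by omega : B.card ≤ 1)
            have h0 : 0 ≤ ∏ Q ∈ B, wt Q.card := Finset.prod_nonneg fun Q _ => (wt_pos _).le
            have := mul_le_mul_of_nonneg_right this h0
            have := wt_pos (∑ Q ∈ B, Q.card)
            linarith
          · -- two fixed points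
            have hge : B.card ≤ ∑ Q ∈ B, Q.card := by
              rw [Finset.card_eq_sum_ones]; exact Finset.sum_le_sum hpart1
            have hall : ∀ Q ∈ B, Q.card = 1 := fun Q hQ => by
              have h1 : B.card - 1 ≤ ∑ Q' ∈ B.erase Q, Q'.card := by
                rw [← Finset.card_erase_of_mem hQ, Finset.card_eq_sum_ones]
                exact Finset.sum_le_sum fun Q' hQ' => hpart1 Q' (Finset.mem_of_mem_erase hQ')
              have h2 := Finset.add_sum_erase _ (fun Q : Finset Ω => Q.card) hQ
              have := hpart1 Q hQ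
              omega
            rw [Finset.prod_congr rfl fun Q hQ => by rw [hall Q hQ], Finset.prod_const,
              show wt 1 = 1 from rfl, one_pow, show ∑ Q ∈ B, Q.card = 2 by omega,
              show B.card = 2 by omega]
            norm_num [wt]
        · obtain ⟨h1, h2⟩ := parts_ineq B (fun Q : Finset Ω => Q.card) hpart1 (by omega)
          have hW0 : 0 < ∏ Q ∈ B, wt Q.card := Finset.prod_pos fun Q _ => wt_pos _
          have hS : ∑ Q ∈ B, cst Q.card ≤ ∏ Q ∈ B, gain Q.card := by
            linarith [inv_pos.2 hW0]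
          rw [show cst (∑ Q ∈ B, Q.card) = cbig by rw [cst, if_neg (by omega)], wt_of_three_le ht]
          have hpow : (∏ Q ∈ B, gain Q.card) * ∏ Q ∈ B, wt Q.card
              = r3 ^ (∑ Q ∈ B, Q.card - 1) * r3 := by
            rw [← pow_succ, show ∑ Q ∈ B, Q.card - 1 + 1 = ∑ Q ∈ B, Q.card by omega,
              ← Finset.prod_mul_distrib, ← Finset.prod_pow_eq_pow_sum]
            exact Finset.prod_congr rfl fun Q hQ => by rw [mul_comm, wt_mul_gain _ (hpart1 Q hQ)]
          have := mul_le_mul_of_nonneg_right hS hW0.le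
          rw [hpow] at this
          refine this.trans ?_
          have hc : r3 ≤ 3 / 2 * cbig := by
            rw [cbig]; linarith [r3_bounds.2]
          calc r3 ^ (∑ Q ∈ B, Q.card - 1) * r3
              ≤ r3 ^ (∑ Q ∈ B, Q.card - 1) * (3 / 2 * cbig) :=
                mul_le_mul_of_nonneg_left hc (pow_nonneg r3_pos.le _)
            _ = _ := by ring

/-- A group moving only the points of one of its orbits. -/
theorem card_conjClasses_le_single (X : Subgroup (Perm Ω)) (α : Ω)
    (hout : ∀ x ∈ X, ∀ a, a ∉ orb X α → x a = a) (h2 : 2 ≤ (orb X α).card)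
    (IH : ∀ Y : Subgroup (Perm Ω), Y < X → (Nat.card (ConjClasses Y) : ℝ) ≤ wprod Y) :
    (Nat.card (ConjClasses X) : ℝ) ≤ wt (orb X α).card := by
  classical
  set O := orb X α with hO
  have hα : ∃ x ∈ X, x α ≠ α := by
    by_contra h
    push Not at h
    rw [hO, orb_eq_singleton h, Finset.card_singleton] at h2
    omega
  set H := ptStab X (fun _ => α) 1 with hH
  have hfixα : ∀ u ∈ H, u α = α := fun u hu => (mem_ptStab.1 hu).2 0 one_pos
  have hHX : H ≤ X := inf_le_left
  set B := O.image (orb H) with hB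
  have hQα : ({α} : Finset Ω) ∈ B :=
    Finset.mem_image.2 ⟨α, self_mem_orb X α, orb_eq_singleton hfixα⟩
  have hfib : ∀ Q : Finset Ω, ∃ R : Finset (Perm Ω),
      (R.card : ℝ) ≤ cst Q.card * wprod H ∧
      (∀ y ∈ X, y α ≠ α → orb H (y α) = Q → ∃ h ∈ X, h * y * h⁻¹ ∈ R) := by
    intro Q
    by_cases hex : ∃ x ∈ X, x α ≠ α ∧ orb H (x α) = Q
    swap
    · refine ⟨∅, ?_, fun y hy hy' hyQ => absurd ⟨y, hy, hy', hyQ⟩ hex⟩
      simp only [Finset.card_empty, Nat.cast_zero]
      exact mul_nonneg (le_trans zero_le_one (one_le_cst _)) (le_trans zero_le_one (one_le_wprod H))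
    obtain ⟨x, hxX, hxα, hxQ⟩ := hex
    let p : ℕ → Ω := fun j => if j = 0 then α else x α
    have hp0 : p 0 = α := rfl
    have hp1 : p 1 = x α := rfl
    obtain ⟨R, hR, hRy⟩ := exists_reps_step X α hα IH (Fintype.card Ω) 1 p (by omega) le_rfl hp0
      (by
        intro a ha b hb hab
        simp only [Set.mem_Iic] at ha hb
        rcases Nat.eq_zero_or_pos a with rfl | ha' <;> rcases Nat.eq_zero_or_pos b with rfl | hb'
        · rfl
        · obtain rfl : b = 1 := by omega
          exact absurd (hab.trans hp1).symm (hp0 ▸ hxα)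
        · obtain rfl : a = 1 := by omega
          exact absurd (hp1.symm.trans hab) (hp0 ▸ hxα)
        · omega)
      x hxX (fun j hj => by obtain rfl : j = 0 := (by omega); rw [hp0, hp1])
    have hsame : ptStab X p 1 = H := by
      ext z
      rw [hH, mem_ptStab, mem_ptStab]
      refine and_congr_right fun _ => forall₂_congr fun j hj => ?_
      obtain rfl : j = 0 := by omega
      rfl
    have hcardQ : (orb (ptStab X (fun j => p (j + 1)) 1) (x (p 1))).card = Q.card := by
      have : orb (ptStab X (fun j => p (j + 1)) 1) (x (p 1)) = (orb H (x α)).image x := by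
        ext b
        rw [mem_orb, Finset.mem_image, hp1]
        constructor
        · rintro ⟨z, hz, rfl⟩
          rw [mem_ptStab] at hz
          refine ⟨(x⁻¹ * z * x) (x α), mem_orb.2 ⟨_, ?_, rfl⟩, by simp⟩
          rw [hH, mem_ptStab]
          refine ⟨X.mul_mem (X.mul_mem (X.inv_mem hxX) hz.1) hxX, fun j hj => ?_⟩
          have h0 : z (x α) = x α := hz.2 0 one_pos
          simp [h0]
        · rintro ⟨c, hc, rfl⟩
          obtain ⟨u, hu, rfl⟩ := mem_orb.1 hc
          refine ⟨x * u * x⁻¹, ?_, by simp⟩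
          rw [mem_ptStab]
          refine ⟨X.mul_mem (X.mul_mem hxX (hHX hu)) (X.inv_mem hxX), fun j hj => ?_⟩
          obtain rfl : j = 0 := by omega
          show (x * u * x⁻¹) (x α) = x α
          simp [hfixα u hu]
      rw [this, hxQ, Finset.card_image_of_injective _ x.injective]
    rw [hcardQ, hsame] at hR
    refine ⟨R, hR, fun y hy hy' hyQ => ?_⟩
    obtain ⟨u, hu, hue⟩ := mem_orb.1 (hyQ.symm ▸ hxQ ▸ self_mem_orb H (x α) : x α ∈ orb H (y α))
    have huX := hHX hu
    have hu' : u⁻¹ α = α := Perm.inv_eq_iff_eq.2 (hfixα u hu).symm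
    obtain ⟨v, hv, hvR⟩ := hRy (u * y * u⁻¹) (X.mul_mem (X.mul_mem huX hy) (X.inv_mem huX))
      (fun j hj => by
        obtain rfl : j = 0 := by omega
        rw [hp0, hp1, Perm.mul_apply, Perm.mul_apply, hu', hue])
    refine ⟨v * u, X.mul_mem (mem_ptStab.1 hv).1 huX, ?_⟩
    rwa [show (v * u) * y * (v * u)⁻¹ = v * (u * y * u⁻¹) * v⁻¹ by group]
  choose R hRcard hRcov using hfib
  set U : Finset (Perm Ω) := insert 1 ((B.erase {α}).biUnion R) with hU
  have hcov : ∀ x ∈ X, ∃ h ∈ X, h * x * h⁻¹ ∈ U := by
    intro x hx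
    by_cases hall : ∀ g ∈ X, (g * x * g⁻¹) α = α
    · refine ⟨1, X.one_mem, Finset.mem_insert.2 (Or.inl ?_)⟩
      have hx1 : x = 1 := by
        ext a
        rw [Perm.one_apply]
        by_cases ha : a ∈ O
        · obtain ⟨g, hg, rfl⟩ := mem_orb.1 ha
          have h := hall g⁻¹ (X.inv_mem hg)
          rw [inv_inv, Perm.mul_apply, Perm.mul_apply, Perm.inv_eq_iff_eq] at h
          exact h
        · exact hout x hx a ha
      subst hx1
      simp
    · push Not at hall
      obtain ⟨g, hg, hgα⟩ := hall
      set y := g * x * g⁻¹ with hy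
      have hyX : y ∈ X := X.mul_mem (X.mul_mem hg hx) (X.inv_mem hg)
      have hQne : orb H (y α) ≠ {α} := fun h => by
        have := self_mem_orb H (y α)
        rw [h, Finset.mem_singleton] at this
        exact hgα this
      obtain ⟨h, hh, hhR⟩ := hRcov _ y hyX hgα rfl
      refine ⟨h * g, X.mul_mem hh hg, Finset.mem_insert.2 (Or.inr (Finset.mem_biUnion.2
        ⟨_, Finset.mem_erase.2 ⟨hQne, Finset.mem_image.2 ⟨y α, mem_orb.2 ⟨y, hyX, rfl⟩, rfl⟩⟩, ?_⟩))⟩
      rwa [show (h * g) * x * (h * g)⁻¹ = h * (g * x * g⁻¹) * h⁻¹ by group]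
  have hk : Nat.card (ConjClasses X) ≤ U.card := by
    rw [← Nat.card_eq_finsetCard U]
    let f : ↥U → ConjClasses X := fun r =>
      if hr : r.1 ∈ X then ConjClasses.mk ⟨r.1, hr⟩ else ConjClasses.mk 1
    refine Nat.card_le_card_of_surjective f fun c => ?_
    obtain ⟨x, rfl⟩ := ConjClasses.exists_rep c
    obtain ⟨h, hh, hhR⟩ := hcov x.1 x.2
    refine ⟨⟨_, hhR⟩, ?_⟩
    simp only [f]
    rw [dif_pos (X.mul_mem (X.mul_mem hh x.2) (X.inv_mem hh))]
    exact ConjClasses.mk_eq_mk_iff_isConj.2 (isConj_iff.2 ⟨⟨h, hh⟩, Subtype.ext rfl⟩).symm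
  have hU2 : (U.card : ℝ) ≤ 1 + (∑ Q ∈ B.erase {α}, cst Q.card) * wprod H := by
    refine le_trans (Nat.cast_le.2 (Finset.card_insert_le _ _)) ?_
    push_cast
    rw [Finset.sum_mul, add_comm]
    gcongr
    refine le_trans (Nat.cast_le.2 Finset.card_biUnion_le) ?_
    push_cast
    exact Finset.sum_le_sum fun Q _ => hRcard Q
  refine le_trans (Nat.cast_le.2 hk) (hU2.trans ?_)
  have hwH : wprod H = ∏ Q ∈ B.erase {α}, wt Q.card := by
    have hOmem : O ∈ orbs X := Finset.mem_image.2 ⟨_, Finset.mem_univ _, rfl⟩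
    rw [wprod_eq_parts hHX, Finset.prod_eq_single_of_mem O hOmem]
    · rw [part, ← hB, ← Finset.mul_prod_erase _ _ hQα, Finset.card_singleton,
        show wt 1 = 1 from rfl, one_mul]
    · intro V hV hne
      obtain ⟨a, -, rfl⟩ := Finset.mem_image.1 hV
      have ha : a ∉ O := fun h => hne (orb_eq_of_mem h)
      rw [part, orb_eq_singleton fun u hu => hout u hu a ha, Finset.image_singleton,
        Finset.prod_singleton, orb_eq_singleton fun u hu => hout u (hHX hu) a ha,
        Finset.card_singleton]
      rfl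
  have hq' : ∀ Q ∈ B.erase {α}, 1 ≤ Q.card := fun Q hQ => by
    obtain ⟨c, -, rfl⟩ := Finset.mem_image.1 (Finset.mem_of_mem_erase hQ)
    exact Finset.card_pos.2 ⟨c, self_mem_orb H c⟩
  have hs : O.card = ∑ Q ∈ B.erase {α}, Q.card + 1 := by
    rw [hO, ← sum_card_parts hHX α, ← hO, ← hB, ← Finset.add_sum_erase _ _ hQα,
      Finset.card_singleton]
    omega
  rw [hwH, hs]
  rw [hs] at h2
  generalize B.erase {α} = B' at hq' h2 ⊢
  rcases Nat.lt_or_ge (∑ Q ∈ B', Q.card) 2 with ht | ht
  · have hc1 : ∀ Q ∈ B', Q.card = 1 := fun Q hQ => by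
      have := Finset.single_le_sum (f := fun Q : Finset Ω => Q.card) (fun _ _ => Nat.zero_le _) hQ
      have := hq' Q hQ
      omega
    have hcard : B'.card = 1 := by
      have : ∑ Q ∈ B', Q.card = B'.card := by
        rw [Finset.card_eq_sum_ones]; exact Finset.sum_congr rfl hc1
      omega
    obtain ⟨Q, rfl⟩ := Finset.card_eq_one.1 hcard
    simp only [Finset.sum_singleton, Finset.prod_singleton]
    rw [hc1 Q (Finset.mem_singleton_self Q)]
    norm_num [cst, wt]
  · obtain ⟨-, h1⟩ := parts_ineq B' (fun Q : Finset Ω => Q.card) hq' ht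
    have hW0 : 0 < ∏ Q ∈ B', wt Q.card := Finset.prod_pos fun Q _ => wt_pos _
    rw [wt_of_three_le (by omega), Nat.add_sub_cancel]
    calc 1 + (∑ Q ∈ B', cst Q.card) * ∏ Q ∈ B', wt Q.card
        = (∑ Q ∈ B', cst Q.card + (∏ Q ∈ B', wt Q.card)⁻¹) * ∏ Q ∈ B', wt Q.card := by
          rw [add_mul, inv_mul_cancel₀ hW0.ne', add_comm]
      _ ≤ (∏ Q ∈ B', gain Q.card) * ∏ Q ∈ B', wt Q.card := mul_le_mul_of_nonneg_right h1 hW0.le
      _ = r3 ^ (∑ Q ∈ B', Q.card) := by
          rw [← Finset.prod_mul_distrib, ← Finset.prod_pow_eq_pow_sum]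
          exact Finset.prod_congr rfl fun Q hQ => by rw [mul_comm, wt_mul_gain _ (hq' Q hQ)]

end Chain

theorem card_conjClasses_congr {G G' : Type*} [Group G] [Group G'] [Finite G] (e : G ≃* G') :
    Nat.card (ConjClasses G') ≤ Nat.card (ConjClasses G) :=
  Nat.card_le_card_of_surjective (ConjClasses.map e.toMonoidHom)
    (ConjClasses.map_surjective e.surjective)

/-- A permutation group has at most as many classes as the product of the weights of its orbits. -/
theorem card_conjClasses_le_wprod (X : Subgroup (Perm Ω)) :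
    (Nat.card (ConjClasses X) : ℝ) ≤ wprod X := by
  classical
  obtain ⟨c, hc⟩ : ∃ c, Nat.card X = c := ⟨_, rfl⟩
  induction c using Nat.strong_induction_on generalizing X with
  | _ c ih =>
    by_cases htriv : X = ⊥
    · subst htriv
      haveI : Subsingleton (ConjClasses (⊥ : Subgroup (Perm Ω))) :=
        Quotient.mk_surjective.subsingleton
      rw [Nat.card_eq_one_iff_unique.2 ⟨inferInstance, ⟨ConjClasses.mk 1⟩⟩, Nat.cast_one]
      exact one_le_wprod _
    obtain ⟨x1, hx1, hx1ne⟩ : ∃ x ∈ X, x ≠ 1 := by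
      by_contra h
      push Not at h
      exact htriv ((Subgroup.eq_bot_iff_forall X).2 h)
    obtain ⟨α, hα⟩ : ∃ a, x1 a ≠ a := by
      by_contra h
      push Not at h
      exact hx1ne (Equiv.ext h)
    set O := orb X α with hO
    have hinv : ∀ g : ↥X, ∀ a, ((g : Perm Ω) a ∈ O ↔ a ∈ O) := fun g a => by
      constructor <;> intro h
      · obtain ⟨u, hu, he⟩ := mem_orb.1 h
        exact mem_orb.2 ⟨(g : Perm Ω)⁻¹ * u, X.mul_mem (X.inv_mem g.2) hu, by simp [he]⟩
      · obtain ⟨u, hu, he⟩ := mem_orb.1 h
        exact mem_orb.2 ⟨(g : Perm Ω) * u, X.mul_mem g.2 hu, by simp [he]⟩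
    let φ : ↥X →* Perm Ω :=
      MonoidHom.mk' (fun g => Perm.ofSubtype (Perm.subtypePerm (g : Perm Ω) (hinv g)))
        fun g g' => by
          rw [← map_mul]
          exact congrArg _ (Equiv.ext fun a => Subtype.ext rfl)
    have hφin : ∀ (g : ↥X) (a : Ω), a ∈ O → φ g a = (g : Perm Ω) a := fun g a ha =>
      Perm.ofSubtype_apply_of_mem _ ha
    have hφout : ∀ (g : ↥X) (a : Ω), a ∉ O → φ g a = a := fun g a ha =>
      Perm.ofSubtype_apply_of_not_mem _ ha
    set X' := φ.range with hX'
    have horbX' : orb X' α = O := by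
      ext b
      rw [mem_orb, hO, mem_orb]
      constructor
      · rintro ⟨u, ⟨g, rfl⟩, rfl⟩
        exact ⟨g, g.2, (hφin g α (self_mem_orb X α)).symm⟩
      · rintro ⟨u, hu, rfl⟩
        exact ⟨φ ⟨u, hu⟩, ⟨_, rfl⟩, hφin _ α (self_mem_orb X α)⟩
    have hO2 : 2 ≤ O.card := by
      refine Finset.one_lt_card.2 ⟨α, self_mem_orb X α, x1 α, mem_orb.2 ⟨x1, hx1, rfl⟩, Ne.symm hα⟩
    have hX'card : Nat.card X' ≤ c := hc ▸ Nat.card_le_card_of_surjective _ φ.rangeRestrict_surjective
    have h1 : (Nat.card (ConjClasses X') : ℝ) ≤ wt O.card := by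
      rw [← horbX']
      refine card_conjClasses_le_single X' α ?_ (horbX'.symm ▸ hO2) fun Y hY => ih _ ?_ Y rfl
      · rintro x ⟨g, rfl⟩ a ha
        exact hφout g a (horbX' ▸ ha)
      · refine lt_of_lt_of_le ?_ hX'card
        exact Set.ncard_lt_ncard (show (Y : Set (Perm Ω)) ⊂ X' from hY) (Set.toFinite _)
    set N := φ.ker.map X.subtype with hN
    have hNX : N ≤ X := Subgroup.map_subtype_le _
    have hNfix : ∀ u ∈ N, ∀ a ∈ O, u a = a := by
      rintro u ⟨g, hg, rfl⟩ a ha
      show (g : Perm Ω) a = a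
      rw [← hφin g a ha, MonoidHom.mem_ker.1 hg, Perm.one_apply]
    have hNlt : N < X := by
      refine lt_of_le_of_ne hNX fun h => hα ?_
      exact hNfix x1 (h.symm ▸ hx1) α (self_mem_orb X α)
    have h2 : (Nat.card (ConjClasses N) : ℝ) ≤ wprod N :=
      ih _ (hc ▸ Set.ncard_lt_ncard (show (N : Set (Perm Ω)) ⊂ X from hNlt) (Set.toFinite _)) N rfl
    have h3 : Nat.card (ConjClasses X) ≤ Nat.card (ConjClasses N) * Nat.card (ConjClasses X') := by
      refine (Cfsg.Agent.S4201.result φ.ker).trans ?_
      refine Nat.mul_le_mul ?_ ?_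
      · exact card_conjClasses_congr (φ.ker.equivMapOfInjective X.subtype X.subtype_injective).symm
      · exact card_conjClasses_congr (QuotientGroup.quotientKerEquivRange φ).symm
    have h4 : wprod N * wt O.card ≤ wprod X := by
      have hOmem : O ∈ orbs X := Finset.mem_image.2 ⟨_, Finset.mem_univ _, rfl⟩
      rw [wprod_eq_parts hNX, wprod, ← Finset.mul_prod_erase _ _ hOmem,
        ← Finset.mul_prod_erase (orbs X) (fun O => wt O.card) hOmem]
      have hpO : part N O = 1 := by
        rw [part]
        refine Finset.prod_eq_one fun Q hQ => ?_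
        obtain ⟨a, ha, rfl⟩ := Finset.mem_image.1 hQ
        rw [orb_eq_singleton fun u hu => hNfix u hu a ha, Finset.card_singleton]
        rfl
      rw [hpO, one_mul, mul_comm]
      exact mul_le_mul_of_nonneg_left (Finset.prod_le_prod (fun V _ => (part_pos N V).le)
        fun V hV => part_le hNX (Finset.mem_of_mem_erase hV)) (wt_pos _).le
    calc (Nat.card (ConjClasses X) : ℝ)
        ≤ (Nat.card (ConjClasses N) : ℝ) * Nat.card (ConjClasses X') := by exact_mod_cast h3
      _ ≤ wprod N * wt O.card :=
          mul_le_mul h2 h1 (Nat.cast_nonneg _) (le_trans zero_le_one (one_le_wprod N))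
      _ ≤ wprod X := h4

/-- A permutation group on `n ≥ 3` points has at most `√3 ^ (n - 1)` classes. -/
theorem sq_card_conjClasses_le (X : Subgroup (Perm Ω)) (hn : 3 ≤ Fintype.card Ω) :
    Nat.card (ConjClasses X) ^ 2 ≤ 3 ^ (Fintype.card Ω - 1) := by
  classical
  have h := card_conjClasses_le_wprod X
  have hsum : ∑ O ∈ orbs X, O.card = Fintype.card Ω := by
    rw [← Finset.card_univ, Finset.card_eq_sum_card_image (orb X) Finset.univ]
    refine Finset.sum_congr rfl fun Q hQ => congrArg Finset.card ?_
    obtain ⟨b, -, rfl⟩ := Finset.mem_image.1 hQ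
    ext c
    simp only [Finset.mem_filter, Finset.mem_univ, true_and]
    exact ⟨fun hc => orb_eq_of_mem hc, fun hc => hc ▸ self_mem_orb X c⟩
  have h' : wprod X ≤ r3 ^ (Fintype.card Ω - 1) := by
    rw [← wt_of_three_le hn, ← hsum]
    refine prod_wt_le _ (fun O : Finset Ω => O.card) fun O hO => ?_
    obtain ⟨b, -, rfl⟩ := Finset.mem_image.1 hO
    exact Finset.card_pos.2 ⟨b, self_mem_orb X b⟩
  have h2 := pow_le_pow_left₀ (Nat.cast_nonneg _) (h.trans h') 2
  rw [← pow_mul, mul_comm, pow_mul, pow_two r3, r3_sq] at h2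
  exact_mod_cast h2

end Cfsg.Lib.PermClassRootThree
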